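import Cfsg.Agent.EqLemmas

set_option autoImplicit false

/-!
Symmetric matrices with zero diagonal in characteristic two.
Main: `det_eq_zero_of_odd` (odd size => det 0), `exists_principal_minor` (a symmetric matrix has a nonsingular
principal submatrix of size its rank), `even_rank`.
-/

namespace Cfsg.Agent.AltRank

open Matrix

theorem det_eq_zero_of_odd {κ F : Type*} [Fintype κ] [DecidableEq κ] [Field F] [CharP F 2] (A : Matrix κ κ F)
    (hs : A.IsSymm) (hd : ∀ i, A i i = 0) (hodd : Odd (Fintype.card κ)) : A.det = 0 := by
  classical
  rw [Matrix.det_apply']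
  refine Finset.sum_involution (fun σ _ => σ⁻¹) ?_ ?_ (fun σ _ => Finset.mem_univ _) (fun σ _ => inv_inv σ)
  · intro σ _
    have hp : ∏ i, A (σ⁻¹ i) i = ∏ i, A (σ i) i := by
      rw [← Equiv.prod_comp σ (fun i => A (σ⁻¹ i) i)]
      refine Finset.prod_congr rfl fun i _ => ?_
      simp [hs.apply]
    rw [hp, Equiv.Perm.sign_inv, CharTwo.add_self_eq_zero]
  · intro σ _ hne heq
    apply hne
    have hinv : Function.Involutive σ := by
      intro i
      have := congrArg (fun f : Equiv.Perm κ => f (σ i)) heq
      simpa using this.symm
    have hfix : ∃ i, σ i = i := by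
      by_contra hno
      push Not at hno
      have h2 : σ ^ 2 = 1 := by
        ext i; simp [sq, hinv i]
      have := Equiv.Perm.card_compl_support_modEq (p := 2) (n := 1) (σ := σ) (by simpa using h2)
      rw [show σ.support = Finset.univ by ext i; simp [hno i]] at this
      rw [Finset.compl_univ, Finset.card_empty] at this
      have hev : Fintype.card κ % 2 = 0 := this.symm
      obtain ⟨k, hk⟩ := hodd
      omega
    obtain ⟨i, hi⟩ := hfix
    rw [Finset.prod_eq_zero (Finset.mem_univ i) (by rw [hi]; exact hd i), mul_zero]

theorem exists_principal_minor {n F : Type*} [Fintype n] [DecidableEq n] [Field F] (A : Matrix n n F)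
    (hs : A.IsSymm) :
    ∃ S : Finset n, S.card = A.rank ∧ (A.submatrix (Subtype.val : S → n) Subtype.val).det ≠ 0 := by
  classical
  obtain ⟨κ, a, ha, hspan, hli⟩ := exists_linearIndependent' F A.row
  haveI : Finite κ := Finite.of_injective a ha
  haveI := Fintype.ofFinite κ
  set S : Finset n := Finset.univ.image a with hS
  let e : κ ≃ S := Equiv.ofBijective (fun k => ⟨a k, Finset.mem_image.mpr ⟨k, Finset.mem_univ _, rfl⟩⟩)
    ⟨fun x y h => ha (congrArg Subtype.val h), fun x => by
      obtain ⟨k, -, hk⟩ := Finset.mem_image.mp x.2
      exact ⟨k, Subtype.ext hk⟩⟩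
  have hcard : Fintype.card κ = A.rank := by
    rw [Matrix.rank_eq_finrank_span_row, ← hspan]
    exact linearIndependent_iff_card_eq_finrank_span.mp hli
  refine ⟨S, ?_, ?_⟩
  · rw [← Fintype.card_coe, ← Fintype.card_congr e, hcard]
  · have hdet : (A.submatrix a a).det ≠ 0 := by
      have hc : ∀ i, ∃ c : κ → F, ∑ k, c k • A.row (a k) = A.row i := by
        intro i
        refine Submodule.mem_span_range_iff_exists_fun F |>.mp ?_
        show A.row i ∈ Submodule.span F (Set.range (A.row ∘ a))
        rw [hspan]
        exact Submodule.subset_span ⟨i, rfl⟩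
      choose c hc using hc
      have hB : A.submatrix a id = A.submatrix a a * Matrix.of (fun k j => c j k) := by
        ext k j
        rw [Matrix.submatrix_apply, id_eq, ← hs.apply, ← Matrix.row_apply A j (a k), ← hc j, Matrix.mul_apply,
          Finset.sum_apply]
        refine Finset.sum_congr rfl fun l _ => ?_
        simp [mul_comm, hs.apply]
      have h1 : Fintype.card κ ≤ (A.submatrix a a).rank := by
        calc Fintype.card κ = (A.submatrix a id).rank := by
              rw [Matrix.rank_eq_finrank_span_row]
              exact linearIndependent_iff_card_eq_finrank_span.mp hli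
          _ ≤ (A.submatrix a a).rank := by rw [hB]; exact Matrix.rank_mul_le_left _ _
      have h2 := le_antisymm h1 (Matrix.rank_le_card_width _)
      rw [Matrix.rank_eq_finrank_span_row] at h2
      have h3 := linearIndependent_iff_card_eq_finrank_span.mpr h2
      rw [Matrix.linearIndependent_rows_iff_isUnit, Matrix.isUnit_iff_isUnit_det] at h3
      exact h3.ne_zero
    have : (A.submatrix (Subtype.val : S → n) Subtype.val) = (A.submatrix a a).submatrix e.symm e.symm := by
      ext i j
      have h : ∀ x : S, a (e.symm x) = x.val := fun x => congrArg Subtype.val (e.apply_symm_apply x)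
      simp [h]
    rw [this, Matrix.det_submatrix_equiv_self]
    exact hdet

/-- A symmetric matrix with zero diagonal in characteristic two has even rank. -/
theorem even_rank {n F : Type*} [Fintype n] [DecidableEq n] [Field F] [CharP F 2] (A : Matrix n n F)
    (hs : A.IsSymm) (hd : ∀ i, A i i = 0) : Even A.rank := by
  obtain ⟨S, hS, hdet⟩ := exists_principal_minor A hs
  rcases Nat.even_or_odd A.rank with h | h
  · exact h
  · exact absurd (det_eq_zero_of_odd _ (hs.submatrix _) (fun i => hd _) (by rwa [Fintype.card_coe, hS])) hdet

end Cfsg.Agent.AltRank
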